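import Cfsg.Agent.Lib.RankThreeMcL.Data
import Cfsg.Agent.Lib.SchurMult.McLTwoFive.Bound
import Cfsg.Agent.Lib.Leech.UnitaryFour
import Cfsg.Agent.Lib.RankThreeRecog.Recognise
import Cfsg.Agent.Lib.RankThreeRecog.Words

/-!
The McLaughlin group as a rank three group on 275 points: the tables of the certificate, the point
stabiliser, the suborbits, and the identification of the point stabiliser with `PSU_4(3)`.
-/

set_option autoImplicit false
set_option maxRecDepth 100000
set_option Elab.async false
set_option linter.style.haveILetI false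

namespace CfsgLib.RankThreeMcL

open Cfsg CfsgLib.Leech CfsgLib.Fischer2 CfsgLib.Mathieu.McLOut CfsgLib.RankThreeRecog MulAction
open CfsgLib.SporRecognition.CosetCert (allBelow allBelow_spec field)
open CfsgLib.SchurMult (lprod)
open CfsgLib.SchurMult.McLTwoFive (tbl rep rep_el rep_injective ptV ptV_spec ptV_injective ptV_ptImg
  ptImg keyAt)
open scoped Pointwise

/-- The image tables of the certificate. -/
noncomputable def tblT (i u : ℕ) : ℕ := bif Nat.blt i 210 then field (Data.tbls.getD i 0) 9 u else u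

/-- A table comes from an element of the group. -/
def RealR (t : ℕ → ℕ) : Prop := ∃ g : KG, ∀ u : Fin 275, ((rep g u : Fin 275) : ℕ) = t u

/-- The first four tables are those of the generators. -/
noncomputable def baseTblOk : Bool := (List.range 4).all fun j =>
  decide (SchurMult.McLTwoFive.Data.baseIdx.getD j 0 < tbl.ts.length) &&
    allBelow 9 275 fun u => Nat.beq (tblT j u) (tbl.img (SchurMult.McLTwoFive.Data.baseIdx.getD j 0) u)

/-- Every other table is a word in earlier ones. -/
noncomputable def defsTblOk : Bool :=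
  Nat.beq Data.defs.length 206 && (List.range 206).all fun k =>
    Nat.beq (Data.defs.getD k (0, [])).1 (k + 4) &&
      ((Data.defs.getD k (0, [])).2.all fun i => Nat.blt i (k + 4)) &&
      allBelow 9 275 fun u => Nat.beq (tblT (k + 4) u) (ev tblT (Data.defs.getD k (0, [])).2 u)

theorem baseTbl_ok : baseTblOk = true := by decide +kernel

theorem defsTbl_ok : defsTblOk = true := by decide +kernel

theorem realR_word {w : List ℕ} (h : ∀ i ∈ w, RealR (tblT i)) : RealR (ev tblT w) := by
  induction w with
  | nil => exact ⟨1, fun u => by rw [map_one]; rfl⟩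
  | cons a w ih =>
    obtain ⟨g, hg⟩ := h a (List.mem_cons_self ..)
    obtain ⟨k, hk⟩ := ih fun i hi => h i (List.mem_cons_of_mem _ hi)
    exact ⟨g * k, fun u => by rw [map_mul, Equiv.Perm.mul_apply, hg, hk, ev_cons]⟩

theorem realR_all (i : ℕ) : RealR (tblT i) := by
  induction i using Nat.strong_induction_on with
  | _ i ih =>
    by_cases hi : i < 4
    · have h := baseTbl_ok
      simp only [baseTblOk, List.all_eq_true, List.mem_range, Bool.and_eq_true, decide_eq_true_eq] at h
      obtain ⟨hl, he⟩ := h i hi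
      refine ⟨_, fun u => (rep_el hl u).trans (Nat.eq_of_beq_eq_true (allBelow_spec he u u.2)).symm⟩
    by_cases hi' : i < 210
    · have h := defsTbl_ok
      simp only [defsTblOk, List.all_eq_true, List.mem_range, Bool.and_eq_true, Nat.blt_eq] at h
      obtain ⟨⟨-, hw⟩, he⟩ := h.2 (i - 4) (by omega)
      rw [show i - 4 + 4 = i by omega] at hw he
      obtain ⟨g, hg⟩ := realR_word fun j hj => ih j (hw j hj)
      exact ⟨g, fun u => (hg u).trans (Nat.eq_of_beq_eq_true (allBelow_spec he u u.2)).symm⟩
    · refine ⟨1, fun u => ?_⟩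
      have e : Nat.blt i 210 = false := by
        rcases hb : Nat.blt i 210 with _ | _
        · rfl
        · exact absurd (Nat.blt_eq.mp hb) hi'
      rw [tblT, e, map_one]
      rfl

/-- The tables as permutations. -/
noncomputable def gperm (i : ℕ) : Equiv.Perm (Fin 275) := rep (realR_all i).choose

theorem describes : Describes tblT gperm := fun i u => (realR_all i).choose_spec u

theorem tblT_lt (i u : ℕ) (hu : u < 275) : tblT i u < 275 := by
  have h := describes i ⟨u, hu⟩
  exact h ▸ Fin.isLt _

/-- The group of McLaughlin as permutations of the 275 points. -/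
noncomputable def mclS : Subgroup (Equiv.Perm (Fin 275)) := rep.range

theorem gperm_mem (i : ℕ) : gperm i ∈ mclS := ⟨_, rfl⟩

theorem wperm_mem_mclS (w : List ℕ) : wperm gperm w ∈ mclS := wperm_mem fun i _ => gperm_mem i

/-- The group as a permutation group. -/
noncomputable def equivS : KG ≃* mclS := MonoidHom.ofInjective rep_injective

theorem natCard_mclS : Nat.card mclS = 898128000 := by
  rw [← Nat.card_congr equivS.toEquiv, natCard_KG]

/-! ### Orbits from growing certificates -/

/-- Certificate entries in the order of `grow`. -/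
def cnv (s : List (ℕ × ℕ × ℕ)) : List (ℕ × ℕ × ℕ) := s.map fun e => (e.2.2, e.1, e.2.1)

/-- Chain levels in the order of `grow`. -/
def cnvLv (ls : List (ℕ × List (List ℕ) × List (ℕ × ℕ × ℕ))) : List Level :=
  ls.map fun l => (l.1, l.2.1, cnv l.2.2)

/-- The points grown from a point. -/
noncomputable def growMask (T : ℕ → ℕ → ℕ) (gens : List (List ℕ)) (x : ℕ) (steps : List (ℕ × ℕ × ℕ)) : ℕ :=
  (grow T gens (cnv steps) (Nat.shiftLeft 1 x)).getD 0

theorem growMask_spec {T : ℕ → ℕ → ℕ} {σ : ℕ → Equiv.Perm (Fin 275)} (hT : Describes T σ)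
    (hN : ∀ i u, u < 275 → T i u < 275) {gens : List (List ℕ)} {L : Subgroup (Equiv.Perm (Fin 275))}
    (hL : ∀ w ∈ gens, wperm σ w ∈ L) {x : ℕ} (hx : x < 275) {steps : List (ℕ × ℕ × ℕ)} (i : ℕ)
    (hi : Nat.testBit (growMask T gens x steps) i = true) :
    ∃ y : Fin 275, (y : ℕ) = i ∧ y ∈ orbit L (⟨x, hx⟩ : Fin 275) := by
  unfold growMask at hi
  rcases hg : grow T gens (cnv steps) (Nat.shiftLeft 1 x) with _ | m
  · rw [hg] at hi; simp at hi
  rw [hg, Option.getD_some] at hi
  obtain ⟨y, hy, rfl⟩ := grow_spec hT hL (orbit L (⟨x, hx⟩ : Fin 275))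
    (fun g hg y hy => by obtain ⟨t, rfl⟩ := hy; exact ⟨⟨g, hg⟩ * t, rfl⟩) hN _ _ _ hg
    (fun j hj => by
      change Nat.testBit (1 <<< x) j = true at hj
      rw [Nat.one_shiftLeft, Nat.testBit_two_pow, decide_eq_true_eq] at hj
      exact ⟨_, mem_orbit_self _, hj⟩) i hi
  exact ⟨y, rfl, hy⟩

/-- The points of a mask. -/
def maskSet (m : ℕ) : Set (Fin 275) := {y | Nat.testBit m y = true}

theorem mem_maskSet {m : ℕ} {y : Fin 275} : y ∈ maskSet m ↔ Nat.testBit m y = true := Iff.rfl

theorem ncard_maskSet (m : ℕ) : (maskSet m).ncard = maskCount 275 m := by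
  classical
  have h1 : maskCount 275 m = ((Finset.range 275).filter fun i => Nat.testBit m i = true).card := by
    rw [maskCount, List.countP_eq_length_filter, ← List.toFinset_range,
      ← List.toFinset_card_of_nodup (List.nodup_range.filter _), List.toFinset_filter]
  rw [h1, ← Set.ncard_coe_finset, ← Set.ncard_image_of_injective (maskSet m) Fin.val_injective]
  congr 1
  ext i
  constructor
  · rintro ⟨y, hy, rfl⟩
    simp only [Finset.coe_filter, Finset.mem_range, Set.mem_ofPred_eq]
    exact ⟨y.2, hy⟩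
  · intro hi
    simp only [Finset.coe_filter, Finset.mem_range, Set.mem_ofPred_eq] at hi
    exact ⟨⟨i, hi.1⟩, hi.2, rfl⟩

/-! ### The point stabiliser -/

/-- The first point. -/
def a0 : Fin 275 := ⟨0, by norm_num⟩

/-- A point at inner product 8 from the first one. -/
def b0 : Fin 275 := ⟨25, by norm_num⟩

/-- A point at inner product 16 from the first one. -/
def c0 : Fin 275 := ⟨1, by norm_num⟩

/-- The stabiliser of the first point. -/
noncomputable def Kp : Subgroup (Equiv.Perm (Fin 275)) := mclS ⊓ stabilizer (Equiv.Perm (Fin 275)) a0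

theorem mem_Kp {g : Equiv.Perm (Fin 275)} : g ∈ Kp ↔ g ∈ mclS ∧ g a0 = a0 := Iff.rfl

/-- The stabiliser of a point in the group and in all permutations. -/
noncomputable def stabEquiv : stabilizer mclS a0 ≃* Kp where
  toFun s := ⟨((s : mclS) : Equiv.Perm (Fin 275)), (s : mclS).2, s.2⟩
  invFun g := ⟨⟨g.1, g.2.1⟩, g.2.2⟩
  left_inv _ := rfl
  right_inv _ := rfl
  map_mul' _ _ := rfl

/-- Indices of tables in the stabiliser. -/
def kKnown : List ℕ := Data.kGens ++ Data.kDefs.map Prod.fst

/-- The tables in the stabiliser are words in its generators. -/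
noncomputable def kDefsOk : List (ℕ × List ℕ) → List ℕ → Bool :=
  fun ds => List.rec (fun _ => true)
    (fun d _ ih known => (d.2.all fun i => known.contains i) &&
      (allBelow 9 275 fun u => Nat.beq (tblT d.1 u) (ev tblT d.2 u)) && ih (d.1 :: known)) ds

theorem kDefs_spec {L : Subgroup (Equiv.Perm (Fin 275))} :
    ∀ (ds : List (ℕ × List ℕ)) (known : List ℕ), kDefsOk ds known = true →
      (∀ i ∈ known, gperm i ∈ L) → ∀ i ∈ known ++ ds.map Prod.fst, gperm i ∈ L
  | [], known, _, hk, i, hi => hk i (by simpa using hi)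
  | d :: ds, known, h, hk, i, hi => by
    change (_ && _ && kDefsOk ds (d.1 :: known)) = true at h
    simp only [Bool.and_eq_true, List.all_eq_true, List.contains_iff_mem] at h
    have hd : gperm d.1 ∈ L := by
      have e : gperm d.1 = wperm gperm d.2 := Equiv.ext fun u => Fin.ext (by
        rw [ev_eq describes, describes]
        exact Nat.eq_of_beq_eq_true (allBelow_spec h.1.2 u u.2))
      rw [e]
      exact wperm_mem fun j hj => hk j (h.1.1 j hj)
    refine kDefs_spec ds _ h.2 (fun j hj => ?_) i ?_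
    · rcases List.mem_cons.1 hj with rfl | hj
      exacts [hd, hk j hj]
    · simp only [List.map_cons, List.mem_append, List.mem_cons] at hi ⊢
      tauto

theorem kDefs_ok : kDefsOk Data.kDefs Data.kGens = true := by decide +kernel

theorem kGens_fix : (Data.kGens.all fun i => Nat.beq (tblT i 0) 0) = true := by decide +kernel

theorem kGens_mem : ∀ i ∈ Data.kGens, gperm i ∈ Kp := fun i hi => by
  have h := List.all_eq_true.1 kGens_fix i hi
  exact ⟨gperm_mem i, Fin.ext ((describes i a0).trans (Nat.eq_of_beq_eq_true h))⟩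

theorem kKnown_mem : ∀ i ∈ kKnown, gperm i ∈ Kp :=
  kDefs_spec _ _ kDefs_ok kGens_mem

/-- All letters of all levels of a chain are in a list. -/
def lettersIn (ok : List ℕ) (ls : List Level) : Bool :=
  ls.all fun l => l.2.1.all fun w => w.all fun i => ok.contains i

theorem lettersIn_mem {ok : List ℕ} {ls : List Level} (h : lettersIn ok ls = true)
    {L : Subgroup (Equiv.Perm (Fin 275))} (hL : ∀ i ∈ ok, gperm i ∈ L) :
    ∀ l ∈ ls, ∀ w ∈ l.2.1, wperm gperm w ∈ L := by
  simp only [lettersIn, List.all_eq_true, List.contains_iff_mem] at h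
  exact fun l hl w hw => wperm_mem fun i hi => hL i (h l hl w hw i hi)

/-- The generators of the stabiliser. -/
noncomputable def kSpan : Subgroup (Equiv.Perm (Fin 275)) :=
  Subgroup.closure (gperm '' {i | i ∈ Data.kGens})

theorem kSpan_le : kSpan ≤ Kp := by
  rw [kSpan, Subgroup.closure_le]
  rintro _ ⟨i, hi, rfl⟩
  exact kGens_mem i hi

theorem kKnown_span : ∀ i ∈ kKnown, gperm i ∈ kSpan :=
  kDefs_spec _ _ kDefs_ok fun i hi => Subgroup.subset_closure ⟨i, hi, rfl⟩

theorem tree_ok : Nat.beq (maskCount 275 (growMask tblT [[0], [1], [2], [3]] 0 Data.tree)) 275 = true := by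
  decide +kernel

theorem orbit_a0 : orbit mclS a0 = Set.univ := by
  refine Set.eq_univ_iff_ncard _ |>.2 (le_antisymm (Set.ncard_le_card _) ?_)
  rw [Nat.card_fin]
  conv_lhs => rw [← Nat.eq_of_beq_eq_true tree_ok, ← ncard_maskSet]
  refine Set.ncard_le_ncard fun y hy => ?_
  obtain ⟨z, hz, hz'⟩ := growMask_spec describes tblT_lt (L := mclS)
    (fun w _ => wperm_mem_mclS w) (by norm_num) y (mem_maskSet.1 hy)
  rwa [← Fin.ext hz]

theorem isPretransitive_mclS : IsPretransitive mclS (Fin 275) := by
  refine ⟨fun x y => ?_⟩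
  obtain ⟨g, hg⟩ : x ∈ orbit mclS a0 := orbit_a0 ▸ Set.mem_univ x
  obtain ⟨h, hh⟩ : y ∈ orbit mclS a0 := orbit_a0 ▸ Set.mem_univ y
  exact ⟨h * g⁻¹, by rw [mul_smul, ← hg, inv_smul_smul]; exact hh⟩

theorem natCard_stab : Nat.card (stabilizer mclS a0) = 3265920 := by
  have h := ncard_orbit_mul_stab (⊤ : Subgroup mclS) a0
  rw [Subgroup.card_top, natCard_mclS] at h
  have ho : orbit (⊤ : Subgroup mclS) a0 = orbit mclS a0 := by
    ext y
    exact ⟨fun ⟨g, hg⟩ => ⟨g.1, hg⟩, fun ⟨g, hg⟩ => ⟨⟨g, Subgroup.mem_top g⟩, hg⟩⟩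
  rw [ho, orbit_a0, Set.ncard_univ, Nat.card_fin] at h
  have hs : Nat.card (stabilizer (⊤ : Subgroup mclS) a0) = Nat.card (stabilizer mclS a0) :=
    Nat.card_congr
      { toFun := fun s => ⟨s.1.1, s.2⟩
        invFun := fun s => ⟨⟨s.1, Subgroup.mem_top _⟩, s.2⟩
        left_inv := fun _ => rfl
        right_inv := fun _ => rfl }
  rw [hs] at h
  omega

theorem natCard_Kp : Nat.card Kp = 3265920 := by
  rw [← Nat.card_congr stabEquiv.toEquiv, natCard_stab]

theorem kChain_ok : (chainOK tblT 275 (cnvLv Data.kChain) [] Data.kOrbs &&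
    lettersIn kKnown (cnvLv Data.kChain) && Nat.beq Data.kOrbs.prod 3265920) = true := by decide +kernel

theorem kSpan_eq : kSpan = Kp := by
  have h := kChain_ok
  simp only [Bool.and_eq_true] at h
  refine Subgroup.eq_of_le_of_card_ge kSpan_le ?_
  rw [natCard_Kp, ← Nat.eq_of_beq_eq_true h.2]
  exact chain_spec describes tblT_lt _ _ _ _ h.1.1 fun l hl w hw _ => lettersIn_mem h.1.2 kKnown_span l hl w hw

/-- A mask is invariant under the generators of the stabiliser. -/
noncomputable def maskInv (m : ℕ) : Bool :=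
  Data.kGens.all fun i => allBelow 9 275 fun u => !(Nat.testBit m u) || Nat.testBit m (tblT i u)

theorem maskInv_spec {m : ℕ} (h : maskInv m = true) {g : Equiv.Perm (Fin 275)} (hg : g ∈ Kp) {x : Fin 275}
    (hx : x ∈ maskSet m) : g x ∈ maskSet m := by
  rw [← kSpan_eq, kSpan, ← Subgroup.mem_toSubmonoid,
    Subgroup.closure_toSubmonoid_of_finite] at hg
  induction hg using Submonoid.closure_induction generalizing x with
  | mem g hg =>
    obtain ⟨i, hi, rfl⟩ := hg
    have := allBelow_spec (List.all_eq_true.1 h i hi) x x.2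
    rw [mem_maskSet] at hx ⊢
    rw [hx] at this
    rw [describes]
    simpa using this
  | one => exact hx
  | mul a b _ _ iha ihb => exact iha (ihb hx)

/-- The orbit of a point under the stabiliser. -/
noncomputable def orbitOk (x : ℕ) (steps : List (ℕ × ℕ × ℕ)) (m : ℕ) : Bool :=
  Nat.blt x 275 && maskInv m && Nat.testBit m x &&
    Nat.beq (growMask tblT (Data.kGens.map fun i => [i]) x steps) m

theorem orbit_eq {x : Fin 275} {steps : List (ℕ × ℕ × ℕ)} {m : ℕ} (h : orbitOk x steps m = true) :
    orbit Kp x = maskSet m := by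
  simp only [orbitOk, Bool.and_eq_true] at h
  obtain ⟨⟨⟨-, hinv⟩, hx⟩, hg⟩ := h
  refine Set.Subset.antisymm ?_ fun y hy => ?_
  · rintro _ ⟨g, rfl⟩
    exact maskInv_spec hinv g.2 hx
  · rw [mem_maskSet, ← Nat.eq_of_beq_eq_true hg] at hy
    obtain ⟨z, hz, hz'⟩ := growMask_spec describes tblT_lt (L := Kp) (fun w hw => by
      obtain ⟨i, hi, rfl⟩ := List.mem_map.1 hw
      rw [wperm_singleton]
      exact kGens_mem i hi) x.2 y hy
    rwa [← Fin.ext hz]

theorem orbit_stab_eq (x : Fin 275) : orbit (stabilizer mclS a0) x = orbit Kp x := by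
  ext y
  exact ⟨fun ⟨g, hg⟩ => ⟨stabEquiv g, hg⟩, fun ⟨g, hg⟩ => ⟨stabEquiv.symm g, hg⟩⟩

theorem near_ok : orbitOk b0 Data.nearSteps Data.nearMask = true ∧
    Nat.beq (maskCount 275 Data.nearMask) 112 = true := by decide +kernel

theorem far_ok : orbitOk c0 Data.farSteps Data.farMask = true ∧
    Nat.beq (maskCount 275 Data.farMask) 162 = true := by decide +kernel

theorem orbit_b0 : orbit Kp b0 = maskSet Data.nearMask := orbit_eq near_ok.1

theorem orbit_c0 : orbit Kp c0 = maskSet Data.farMask := orbit_eq far_ok.1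

theorem ncard_near : (maskSet Data.nearMask).ncard = 112 := by
  rw [ncard_maskSet, Nat.eq_of_beq_eq_true near_ok.2]

theorem ncard_far : (maskSet Data.farMask).ncard = 162 := by
  rw [ncard_maskSet, Nat.eq_of_beq_eq_true far_ok.2]

/-- The group on the 275 points has suborbits of sizes 112 and 162. -/
theorem sub_mcl : Sub mclS a0 b0 c0 275 112 162 where
  finG := inferInstance
  finV := inferInstance
  pre := isPretransitive_mclS
  card := Nat.card_fin 275
  near := by rw [orbit_stab_eq, orbit_b0, ncard_near]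
  far := by rw [orbit_stab_eq, orbit_c0, ncard_far]
  ne := by norm_num
  sum := by norm_num
  kpos := by norm_num
  lpos := by norm_num
  noBlock := by norm_num

/-! ### The point stabiliser is `PSU_4(3)` -/

/-- The vector of squared length 48. -/
def vecPB : leechLattice := baseP + baseB

theorem base_dots : sqNorm (coordVec vecPB) = 48 ∧ sqNorm (coordVec vecPB - coordVec baseP) = 32 ∧
    dotInt (coordVec vecPB) (coordVec (ptV a0)) = 24 ∧ dotInt (coordVec baseP) (coordVec (ptV a0)) = 16 := by
  have hk : keyOk (keyAt 0) = true := by decide +kernel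
  simp only [keyOk, Bool.and_eq_true, decide_eq_true_eq] at hk
  obtain ⟨⟨h1, h2⟩, h3⟩ := hk
  have hl : (keyList (keyAt 0)).length = 24 := by simp [keyList]
  have hn : sqNorm (coordVec (ofList _ h1)) = 32 := by
    rw [coordVec_ofList, ← dotInt_self, dotInt_toVec hl hl, h2]
  have hx : ptV a0 = ofList _ h1 := by
    refine key_inj (ptV_spec _).1 hn ?_
    have e : ofVec (coordVec (ofList _ h1)) = keyList (keyAt 0) := by
      refine List.ext_getElem (by simp [length_ofVec, hl]) fun i hi hi' => ?_
      simp only [ofVec, List.getElem_map, List.getElem_range, coordVec_ofList, toVec]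
      rw [CfsgLib.Golay.idx_pt (by rw [← hl]; exact hi'), List.getD_eq_getElem _ _ hi']
    rw [(ptV_spec _).2, key, e, h3]
    rfl
  have e : coordVec vecPB = toVec listP + toVec listB := by
    rw [show coordVec vecPB = coordVec baseP + coordVec baseB from rfl, ← toVec_listP, ← toVec_listB]
  rw [hx, coordVec_ofList, e, ← toVec_listP]
  decide +kernel

/-- The common stabiliser of the three vectors. -/
noncomputable abbrev triStab : Subgroup Co0 :=
  stabilizer Co0 vecPB ⊓ stabilizer Co0 baseP ⊓ stabilizer Co0 (ptV a0)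

theorem triStab_le {g : Co0} (hg : g ∈ triStab) : g ∈ KG := by
  obtain ⟨⟨h1, h2⟩, -⟩ := hg
  change g • vecPB = vecPB at h1
  change g • baseP = baseP at h2
  rw [vecPB, smul_add_co0, h2, add_right_inj] at h1
  exact mem_KG.2 ⟨h2, h1⟩

/-- The stabiliser of three vectors on the 275 points. -/
noncomputable def triRep : triStab →* Equiv.Perm (Fin 275) :=
  rep.comp ((triStab.subtype).codRestrict KG fun g => triStab_le g.2)

theorem triRep_range : triRep.range = Kp := by
  ext p
  constructor
  · rintro ⟨g, rfl⟩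
    refine ⟨⟨_, rfl⟩, ptV_injective ?_⟩
    exact (ptV_ptImg _ _).trans g.2.2
  · rintro ⟨⟨g, rfl⟩, hg⟩
    have h := ptV_ptImg g a0
    rw [show ptImg g a0 = a0 from hg] at h
    obtain ⟨hP, hB⟩ := mem_KG.1 g.2
    refine ⟨⟨g.1, ⟨?_, hP⟩, h.symm⟩, rfl⟩
    show (g : Co0) • vecPB = vecPB
    rw [vecPB, smul_add_co0, hP, hB]

theorem triRep_injective : Function.Injective triRep := fun _ _ e =>
  Subtype.ext (by simpa using congrArg Subtype.val (rep_injective e))

/-- The point stabiliser is `PSU_4(3)`. -/
theorem nonempty_Kp_psu {F : Type*} [Field F] [Fintype F] (hF : Fintype.card F = 9) :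
    Nonempty (Kp ≃* Cfsg.PSU 4 F 3) := by
  obtain ⟨h1, h2, h3, h4⟩ := base_dots
  obtain ⟨φ⟩ := nonempty_stab_mcl hF h1 sqNorm_baseP h2 (x := ptV a0) ⟨(ptV_spec _).1, h3, h4⟩
  exact ⟨(((MonoidHom.ofInjective triRep_injective).trans
    (MulEquiv.subgroupCongr triRep_range)).symm).trans φ⟩

end CfsgLib.RankThreeMcL
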